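import Groth.Agent.Lib.TorsorSch25.Basic
import Groth.Agent.Lib.TorsorSch25.ExactPts
import Groth.Prelude.Def_NonAbH2

/-! Central extensions of group schemes: descent along the quotient map. -/

set_option autoImplicit false
set_option backward.isDefEq.respectTransparency.types false

universe u

open CategoryTheory CategoryTheory.Limits MonoidalCategory CartesianMonoidalCategory MonObj AlgebraicGeometry
open Groth.Agent.TorsorSch25

namespace Groth.Agent.CentExt24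

variable {S : Scheme.{u}}

/-- `w` has sections locally on every test object. -/
def LocLift {A B : Over S} (w : A ⟶ B) : Prop :=
  ∀ ⦃T : Over S⦄ (p : T ⟶ B), ∃ R ∈ Scheme.fpqcPrecoverage T.left,
    ∀ ⦃T' : Over S⦄ (f : T' ⟶ T), R f.left → ∃ x : T' ⟶ A, x ≫ w = f ≫ p

theorem hom_ext_of_locLift {A B Z : Over S} {w : A ⟶ B} (hw : LocLift w) {c c' : B ⟶ Z}
    (h : w ≫ c = w ≫ c') : c = c' := by
  obtain ⟨R, hR, hl⟩ := hw (𝟙 B)
  refine hom_ext_of_cover hR fun T' f hf => ?_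
  obtain ⟨x, hx⟩ := hl f hf
  rw [Category.comp_id] at hx
  rw [← hx, Category.assoc, Category.assoc, h]

theorem exists_desc {A B Z : Over S} {w : A ⟶ B} (hw : LocLift w) (d : A ⟶ Z)
    (hd : ∀ (T : Over S) (x x' : T ⟶ A), x ≫ w = x' ≫ w → x ≫ d = x' ≫ d) :
    ∃ c : B ⟶ Z, w ≫ c = d := by
  obtain ⟨R, hR, hl⟩ := hw (𝟙 B)
  obtain ⟨c, hc⟩ := exists_glue
    (fun T' f z => ∀ ⦃U : Over S⦄ (a : U ⟶ T') (x : U ⟶ A), x ≫ w = a ≫ f → a ≫ z = x ≫ d)
    (fun T' T'' a f z h U b x hx => by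
      rw [← Category.assoc]
      exact h (b ≫ a) x (by rw [hx, Category.assoc]))
    (fun T' f z z' h h' => by
      obtain ⟨R', hR', hl'⟩ := hw f
      refine hom_ext_of_cover hR' fun U a ha => ?_
      obtain ⟨x, hx⟩ := hl' a ha
      rw [h a x hx, h' a x hx])
    hR (fun T' f hf => by
      obtain ⟨x₀, hx₀⟩ := hl f hf
      rw [Category.comp_id] at hx₀
      refine ⟨x₀ ≫ d, fun U a x hx => ?_⟩
      rw [← Category.assoc]
      exact hd U _ _ (by rw [Category.assoc, hx₀, hx]))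
  refine ⟨c, ?_⟩
  refine hom_ext_of_cover (Precoverage.pullbackArrows_mem w.left hR) fun T' f hf => ?_
  obtain ⟨W, u, hu, q, hq⟩ := exists_of_pullbackArrows hf
  let T₁ : Over S := Over.mk (u ≫ B.hom)
  let u' : T₁ ⟶ B := Over.homMk u rfl
  have hqS : q ≫ u ≫ B.hom = T'.hom := by rw [← Category.assoc, hq, Category.assoc, Over.w w, Over.w f]
  let q' : T' ⟶ T₁ := Over.homMk q hqS
  have e : q' ≫ u' = f ≫ w := Over.OverMorphism.ext hq
  have h1 := hc u' hu q' f e.symm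
  rw [← Category.assoc, ← e, Category.assoc]
  exact h1

theorem locLift_of_trivial {A B : Over S} (v : A ⟶ B)
    (h : NonAbH1.IsLocallyTrivialFor Scheme.fppfPrecoverage (Over.mk v.left : Over B.left)) :
    LocLift v := by
  obtain ⟨R, hR, hs⟩ := h
  intro T p
  refine ⟨R.pullbackArrows p.left,
    Precoverage.pullbackArrows_mem p.left (Scheme.fppfPrecoverage_le_fpqcPrecoverage _ hR), fun T' f hf => ?_⟩
  obtain ⟨W, u, hu, q, hq⟩ := exists_of_pullbackArrows hf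
  obtain ⟨s, hs'⟩ := hs u hu
  change s ≫ v.left = u at hs'
  refine ⟨Over.homMk (q ≫ s) ?_, Over.OverMorphism.ext ?_⟩
  · show (q ≫ s) ≫ A.hom = T'.hom
    rw [← Over.w v, ← Category.assoc, Category.assoc q, hs', hq, Category.assoc, Over.w p, Over.w f]
  · show (q ≫ s) ≫ v.left = f.left ≫ p.left
    rw [Category.assoc, hs', hq]

theorem LocLift.whiskerRight {A B : Over S} {v : A ⟶ B} (h : LocLift v) (Q : Over S) : LocLift (v ▷ Q) := by
  intro T p
  obtain ⟨R, hR, hl⟩ := h (p ≫ fst B Q)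
  refine ⟨R, hR, fun T' f hf => ?_⟩
  obtain ⟨x, hx⟩ := hl f hf
  refine ⟨lift x (f ≫ p ≫ snd B Q), CartesianMonoidalCategory.hom_ext _ _ ?_ ?_⟩
  · rw [Category.assoc, whiskerRight_fst, lift_fst_assoc, hx, Category.assoc]
  · rw [Category.assoc, whiskerRight_snd, lift_snd, Category.assoc]

theorem LocLift.whiskerLeft {A B : Over S} {v : A ⟶ B} (h : LocLift v) (Q : Over S) : LocLift (Q ◁ v) := by
  intro T p
  obtain ⟨R, hR, hl⟩ := h (p ≫ snd Q B)
  refine ⟨R, hR, fun T' f hf => ?_⟩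
  obtain ⟨x, hx⟩ := hl f hf
  refine ⟨lift (f ≫ p ≫ fst Q B) x, CartesianMonoidalCategory.hom_ext _ _ ?_ ?_⟩
  · rw [Category.assoc, whiskerLeft_fst, lift_fst, Category.assoc]
  · rw [Category.assoc, whiskerLeft_snd, lift_snd_assoc, hx, Category.assoc]

section Exact

variable {G E P : Over S} [GrpObj G] [GrpObj E] [GrpObj P] {u : G ⟶ E} {v : E ⟶ P}

theorem existsUnique_mul (hex : NonAbH1.IsExactSeq Scheme.fppfPrecoverage u v) {T : Over S}
    (x y : T ⟶ E) (h : x ≫ v = y ≫ v) : ∃! k : T ⟶ G, x * (k ≫ u) = y := by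
  obtain ⟨hu, hv, huv, hpb, -⟩ := hex
  have key : ∀ (l : T ⟶ E ⊗ G), l ≫ (E ◁ u) ≫ μ[E] = (l ≫ fst E G) * ((l ≫ snd E G) ≫ u) := by
    intro l
    rw [Hom.mul_def, ← lift_whiskerLeft_assoc, ← comp_lift, lift_fst_snd, Category.comp_id]
  refine ⟨hpb.lift x y h ≫ snd E G, ?_, fun k hk => ?_⟩
  · show _ * _ = _
    conv_lhs => arg 1; rw [← hpb.lift_fst x y h]
    rw [← key, hpb.lift_snd]
  · have : lift x k = hpb.lift x y h := hpb.hom_ext (by rw [lift_fst, hpb.lift_fst]) (by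
      rw [hpb.lift_snd, key, lift_fst, lift_snd]; exact hk)
    rw [← this, lift_snd]

theorem cancel_u (hex : NonAbH1.IsExactSeq Scheme.fppfPrecoverage u v) {T : Over S} {g g' : T ⟶ G}
    (h : g ≫ u = g' ≫ u) : g = g' := by
  haveI := hex.1; haveI := hex.2.1
  refine (existsUnique_mul hex 1 (g ≫ u) ?_).unique (_root_.one_mul _) (by rw [_root_.one_mul, h])
  rw [MonObj.one_comp, Category.assoc, hex.2.2.1, MonObj.comp_one]

theorem exists_u (hex : NonAbH1.IsExactSeq Scheme.fppfPrecoverage u v) {T : Over S} (x : T ⟶ E)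
    (h : x ≫ v = 1) : ∃ g : T ⟶ G, g ≫ u = x := by
  haveI := hex.2.1
  obtain ⟨g, hg, -⟩ := existsUnique_mul hex 1 x (by rw [MonObj.one_comp, h])
  exact ⟨g, by simpa using hg⟩

theorem central [IsCommMonObj G] (hex : NonAbH1.IsExactSeq Scheme.fppfPrecoverage u v)
    (hPG : ∀ f : P ⊗ G ⟶ G, lift (𝟙 P) (toUnit P ≫ η[G]) ≫ f = 1 →
      lift (toUnit G ≫ η[P]) (𝟙 G) ≫ f = 1 → f = 1)
    {T : Over S} (g : T ⟶ G) (x : T ⟶ E) : (g ≫ u) * x = x * (g ≫ u) := by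
  haveI := hex.1; haveI := hex.2.1
  have huv1 : ∀ {T : Over S} (h : T ⟶ G), (h ≫ u) ≫ v = 1 := fun h => by
    rw [Category.assoc, hex.2.2.1, MonObj.comp_one]
  obtain ⟨k, hk⟩ := exists_u hex (fst E G * (snd E G ≫ u) * (fst E G)⁻¹)
    (by rw [MonObj.mul_comp, MonObj.mul_comp, huv1, _root_.mul_one, GrpObj.inv_comp, mul_inv_cancel])
  have hkp : ∀ {T : Over S} (x : T ⟶ E) (g : T ⟶ G), (lift x g ≫ k) ≫ u = x * (g ≫ u) * x⁻¹ :=
    fun x g => by
      rw [Category.assoc, hk, MonObj.comp_mul, MonObj.comp_mul, GrpObj.comp_inv, lift_fst, lift_snd_assoc]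
  let d : E ⊗ G ⟶ G := k * (snd E G)⁻¹
  have hdp : ∀ {T : Over S} (x : T ⟶ E) (g : T ⟶ G), lift x g ≫ d = (lift x g ≫ k) * g⁻¹ := fun x g => by
    rw [MonObj.comp_mul, GrpObj.comp_inv, lift_snd]
  have hloc := locLift_of_trivial v hex.2.2.2.2
  obtain ⟨c, hc⟩ := exists_desc (hloc.whiskerRight G) d fun T z z' e => by
    obtain ⟨x, g, rfl⟩ : ∃ x g, z = lift x g := ⟨_, _, (lift_comp_fst_snd z).symm⟩
    obtain ⟨x', g', rfl⟩ : ∃ x g, z' = lift x g := ⟨_, _, (lift_comp_fst_snd z').symm⟩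
    rw [lift_whiskerRight, lift_whiskerRight] at e
    have e1 : x ≫ v = x' ≫ v := by simpa using congrArg (· ≫ fst P G) e
    have e2 : g = g' := by simpa using congrArg (· ≫ snd P G) e
    subst e2
    obtain ⟨h, rfl, -⟩ := existsUnique_mul hex x x' e1
    rw [hdp, hdp]
    congr 1
    refine cancel_u hex ?_
    rw [hkp, hkp]
    have hcm : (h ≫ u) * (g ≫ u) * (h ≫ u)⁻¹ = g ≫ u := by
      rw [← MonObj.mul_comp, _root_.mul_comm h g, MonObj.mul_comp, mul_inv_cancel_right]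
    calc x * (g ≫ u) * x⁻¹ = x * ((h ≫ u) * (g ≫ u) * (h ≫ u)⁻¹) * x⁻¹ := by rw [hcm]
      _ = _ := by group
  have hc1 : c = 1 := by
    refine hPG c ?_ ?_
    · refine hom_ext_of_locLift hloc ?_
      have e : v ≫ lift (𝟙 P) (toUnit P ≫ η[G]) = lift (𝟙 E) (1 : E ⟶ G) ≫ (v ▷ G) := by
        rw [lift_whiskerRight, comp_lift, Category.comp_id, Category.id_comp, ← Category.assoc,
          comp_toUnit, Hom.one_def]
      rw [← Category.assoc, e, Category.assoc, hc, hdp, inv_one, _root_.mul_one, MonObj.comp_one]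
      refine cancel_u hex ?_
      rw [hkp, MonObj.one_comp, _root_.mul_one, mul_inv_cancel]
    · have e : lift (toUnit G ≫ η[P]) (𝟙 G) = lift (1 : G ⟶ E) (𝟙 G) ≫ (v ▷ G) := by
        rw [lift_whiskerRight, MonObj.one_comp, Hom.one_def]
      rw [e, Category.assoc, hc, hdp]
      have hk1 : lift (1 : G ⟶ E) (𝟙 G) ≫ k = 𝟙 G := cancel_u hex (by
        rw [hkp, _root_.one_mul, inv_one, _root_.mul_one])
      rw [hk1, mul_inv_cancel]
  have h1 : lift x g ≫ d = 1 := by rw [← hc, hc1, MonObj.comp_one, MonObj.comp_one]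
  rw [hdp, mul_inv_eq_one] at h1
  have h2 := hkp x g
  rw [h1] at h2
  calc (g ≫ u) * x = x * (g ≫ u) * x⁻¹ * x := by rw [← h2]
    _ = x * (g ≫ u) := by rw [inv_mul_cancel_right]

theorem exists_desc₂ {Z : Over S} (hloc : LocLift v) (d : E ⊗ E ⟶ Z)
    (h₁ : ∀ (T : Over S) (x x' y : T ⟶ E), x ≫ v = x' ≫ v → lift x y ≫ d = lift x' y ≫ d)
    (h₂ : ∀ (T : Over S) (x y y' : T ⟶ E), y ≫ v = y' ≫ v → lift x y ≫ d = lift x y' ≫ d) :
    ∃ c : P ⊗ P ⟶ Z, ∀ (T : Over S) (x y : T ⟶ E), lift (x ≫ v) (y ≫ v) ≫ c = lift x y ≫ d := by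
  obtain ⟨c₁, hc₁⟩ := exists_desc (hloc.whiskerRight E) d fun T z z' e => by
    obtain ⟨x, y, rfl⟩ : ∃ x g, z = lift x g := ⟨_, _, (lift_comp_fst_snd z).symm⟩
    obtain ⟨x', y', rfl⟩ : ∃ x g, z' = lift x g := ⟨_, _, (lift_comp_fst_snd z').symm⟩
    rw [lift_whiskerRight, lift_whiskerRight] at e
    have e1 : x ≫ v = x' ≫ v := by simpa using congrArg (· ≫ fst P E) e
    have e2 : y = y' := by simpa using congrArg (· ≫ snd P E) e
    subst e2
    exact h₁ T x x' y e1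
  have hc₁' : ∀ {T : Over S} (x y : T ⟶ E), lift (x ≫ v) y ≫ c₁ = lift x y ≫ d := fun x y => by
    rw [← lift_whiskerRight, Category.assoc, hc₁]
  obtain ⟨c, hc⟩ := exists_desc (hloc.whiskerLeft P) c₁ fun T z z' e => by
    obtain ⟨p, y, rfl⟩ : ∃ x g, z = lift x g := ⟨_, _, (lift_comp_fst_snd z).symm⟩
    obtain ⟨p', y', rfl⟩ : ∃ x g, z' = lift x g := ⟨_, _, (lift_comp_fst_snd z').symm⟩
    rw [lift_whiskerLeft, lift_whiskerLeft] at e
    have e1 : p = p' := by simpa using congrArg (· ≫ fst P P) e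
    have e2 : y ≫ v = y' ≫ v := by simpa using congrArg (· ≫ snd P P) e
    subst e1
    obtain ⟨R, hR, hl⟩ := hloc p
    refine hom_ext_of_cover hR fun T' f hf => ?_
    obtain ⟨x, hx⟩ := hl f hf
    rw [← Category.assoc, ← Category.assoc, comp_lift, comp_lift, ← hx, hc₁', hc₁']
    exact h₂ T' x _ _ (by rw [Category.assoc, Category.assoc, e2])
  exact ⟨c, fun T x y => by rw [← lift_whiskerLeft, Category.assoc, hc, hc₁']⟩

theorem axes₂ {Z : Over S} [GrpObj Z] (hloc : LocLift v) [IsMonHom v] (d : E ⊗ E ⟶ Z) (c : P ⊗ P ⟶ Z)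
    (hc : ∀ (T : Over S) (x y : T ⟶ E), lift (x ≫ v) (y ≫ v) ≫ c = lift x y ≫ d)
    (hl : lift (𝟙 E) (1 : E ⟶ E) ≫ d = 1) (hr : lift (1 : E ⟶ E) (𝟙 E) ≫ d = 1) :
    lift (𝟙 P) (toUnit P ≫ η[P]) ≫ c = 1 ∧ lift (toUnit P ≫ η[P]) (𝟙 P) ≫ c = 1 := by
  constructor
  · refine hom_ext_of_locLift hloc ?_
    have e : v ≫ lift (𝟙 P) (toUnit P ≫ η[P]) = lift (𝟙 E ≫ v) ((1 : E ⟶ E) ≫ v) := by
      rw [comp_lift, Category.comp_id, Category.id_comp, MonObj.one_comp, ← Category.assoc,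
        comp_toUnit, Hom.one_def]
    rw [← Category.assoc, e, hc, hl, MonObj.comp_one]
  · refine hom_ext_of_locLift hloc ?_
    have e : v ≫ lift (toUnit P ≫ η[P]) (𝟙 P) = lift ((1 : E ⟶ E) ≫ v) (𝟙 E ≫ v) := by
      rw [comp_lift, Category.comp_id, Category.id_comp, MonObj.one_comp, ← Category.assoc,
        comp_toUnit, Hom.one_def]
    rw [← Category.assoc, e, hc, hr, MonObj.comp_one]

theorem isCommMonObj [IsCommMonObj G] [IsCommMonObj P]
    (hex : NonAbH1.IsExactSeq Scheme.fppfPrecoverage u v)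
    (hcen : ∀ (T : Over S) (g : T ⟶ G) (x : T ⟶ E), (g ≫ u) * x = x * (g ≫ u))
    (hPP : ∀ f : P ⊗ P ⟶ G, lift (𝟙 P) (toUnit P ≫ η[P]) ≫ f = 1 →
      lift (toUnit P ≫ η[P]) (𝟙 P) ≫ f = 1 → f = 1) : IsCommMonObj E := by
  haveI := hex.1; haveI := hex.2.1
  obtain ⟨d, hd⟩ := exists_u hex (fst E E * snd E E * (fst E E)⁻¹ * (snd E E)⁻¹) (by
    simp only [MonObj.mul_comp, GrpObj.inv_comp]
    rw [_root_.mul_comm (fst E E ≫ v), mul_inv_cancel_right, mul_inv_cancel])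
  have hdp : ∀ {T : Over S} (x y : T ⟶ E), (lift x y ≫ d) ≫ u = x * y * x⁻¹ * y⁻¹ := fun x y => by
    rw [Category.assoc, hd]
    simp only [MonObj.comp_mul, GrpObj.comp_inv, lift_fst, lift_snd]
  obtain ⟨c, hc⟩ := exists_desc₂ (locLift_of_trivial v hex.2.2.2.2) d
    (fun T x x' y e => by
      obtain ⟨h, rfl, -⟩ := existsUnique_mul hex x x' e
      refine cancel_u hex ?_
      rw [hdp, hdp]
      have h1 := hcen T h y
      calc x * y * x⁻¹ * y⁻¹ = x * (y * (h ≫ u)) * (h ≫ u)⁻¹ * x⁻¹ * y⁻¹ := by group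
        _ = x * ((h ≫ u) * y) * (h ≫ u)⁻¹ * x⁻¹ * y⁻¹ := by rw [h1]
        _ = _ := by group)
    (fun T x y y' e => by
      obtain ⟨h, rfl, -⟩ := existsUnique_mul hex y y' e
      refine cancel_u hex ?_
      rw [hdp, hdp]
      have h1 : (h ≫ u) * x⁻¹ = x⁻¹ * (h ≫ u) := hcen T h x⁻¹
      calc x * y * x⁻¹ * y⁻¹ = x * y * (x⁻¹ * (h ≫ u)) * (h ≫ u)⁻¹ * y⁻¹ := by group
        _ = x * y * ((h ≫ u) * x⁻¹) * (h ≫ u)⁻¹ * y⁻¹ := by rw [h1]
        _ = _ := by group)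
  obtain ⟨ha, hb⟩ := axes₂ (locLift_of_trivial v hex.2.2.2.2) d c hc
    (cancel_u hex (by rw [hdp, MonObj.one_comp]; group))
    (cancel_u hex (by rw [hdp, MonObj.one_comp]; group))
  have hc1 := hPP c ha hb
  have hcomm : ∀ {T : Over S} (x y : T ⟶ E), x * y = y * x := fun x y => by
    have h1 := hdp x y
    rw [← hc, hc1, MonObj.comp_one, MonObj.one_comp] at h1
    calc x * y = (x * y * x⁻¹ * y⁻¹) * (y * x) := by group
      _ = y * x := by rw [← h1, _root_.one_mul]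
  refine ⟨?_⟩
  have h := hcomm (snd E E) (fst E E)
  rw [Hom.mul_def, Hom.mul_def, lift_fst_snd, Category.id_comp] at h
  rw [← h]
  congr 1

theorem bitorsor_isMonHom [IsCommMonObj G] {E' : Over S} [GrpObj E'] {u' : G ⟶ E'} {v' : E' ⟶ P}
    (hex : NonAbH1.IsExactSeq Scheme.fppfPrecoverage u v)
    (hex' : NonAbH1.IsExactSeq Scheme.fppfPrecoverage u' v')
    (hPP : ∀ f : P ⊗ P ⟶ G, lift (𝟙 P) (toUnit P ≫ η[P]) ≫ f = 1 →
      lift (toUnit P ≫ η[P]) (𝟙 P) ≫ f = 1 → f = 1)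
    (f : E ⟶ E') (hv : f ≫ v' = v) (h1 : η[E] ≫ f = η[E'])
    (hl : ∀ (T : Over S) (g : T ⟶ G) (x : T ⟶ E), ((g ≫ u) * x) ≫ f = (g ≫ u') * (x ≫ f))
    (hr : ∀ (T : Over S) (g : T ⟶ G) (x : T ⟶ E), (x * (g ≫ u)) ≫ f = (x ≫ f) * (g ≫ u')) :
    IsMonHom f := by
  haveI := hex.1; haveI := hex.2.1; haveI := hex'.1; haveI := hex'.2.1
  obtain ⟨d, hd⟩ := exists_u hex'
    ((fst E E * snd E E) ≫ f * ((fst E E ≫ f) * (snd E E ≫ f))⁻¹) (by
      simp only [MonObj.mul_comp, GrpObj.inv_comp, Category.assoc, hv]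
      rw [mul_inv_cancel])
  have hdp : ∀ {T : Over S} (x y : T ⟶ E),
      (lift x y ≫ d) ≫ u' = (x * y) ≫ f * ((x ≫ f) * (y ≫ f))⁻¹ := fun x y => by
    rw [Category.assoc, hd, MonObj.comp_mul, GrpObj.comp_inv, MonObj.comp_mul, ← Category.assoc,
      MonObj.comp_mul, lift_fst, lift_snd, lift_fst_assoc, lift_snd_assoc]
  have hone : ∀ T : Over S, (1 : T ⟶ E) ≫ f = 1 := fun T => by
    rw [Hom.one_def, Hom.one_def, Category.assoc, h1]
  obtain ⟨c, hc⟩ := exists_desc₂ (locLift_of_trivial v hex.2.2.2.2) d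
    (fun T x x' y e => by
      obtain ⟨g, hg⟩ := exists_u hex (x' * x⁻¹) (by
        rw [MonObj.mul_comp, GrpObj.inv_comp, e, mul_inv_cancel])
      have hx' : x' = (g ≫ u) * x := by rw [hg, inv_mul_cancel_right]
      subst hx'
      refine cancel_u hex' ?_
      have hy := hdp x y
      rw [hdp ((g ≫ u) * x) y, _root_.mul_assoc (g ≫ u), hl, hl]
      have hD : (g ≫ u') * ((lift x y ≫ d) ≫ u') = ((lift x y ≫ d) ≫ u') * (g ≫ u') := by
        rw [← MonObj.mul_comp, ← MonObj.mul_comp, _root_.mul_comm]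
      rw [hy] at hD ⊢
      calc (x * y) ≫ f * ((x ≫ f) * (y ≫ f))⁻¹
          = ((x * y) ≫ f * ((x ≫ f) * (y ≫ f))⁻¹) * (g ≫ u') * (g ≫ u')⁻¹ := by group
        _ = (g ≫ u') * ((x * y) ≫ f * ((x ≫ f) * (y ≫ f))⁻¹) * (g ≫ u')⁻¹ := by rw [hD]
        _ = _ := by group)
    (fun T x y y' e => by
      obtain ⟨g, rfl, -⟩ := existsUnique_mul hex y y' e
      refine cancel_u hex' ?_
      rw [hdp, hdp, ← _root_.mul_assoc x, hr, hr]
      group)
  obtain ⟨ha, hb⟩ := axes₂ (locLift_of_trivial v hex.2.2.2.2) d c hc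
    (cancel_u hex' (by rw [hdp, hone, MonObj.one_comp, _root_.mul_one, _root_.mul_one, mul_inv_cancel]))
    (cancel_u hex' (by rw [hdp, hone, MonObj.one_comp, _root_.one_mul, _root_.one_mul, mul_inv_cancel]))
  have hc1 := hPP c ha hb
  refine isMonHom_of_points f fun T x y => ?_
  have h2 := hdp x y
  rw [← hc, hc1, MonObj.comp_one, MonObj.one_comp] at h2
  exact mul_inv_eq_one.1 h2.symm

end Exact

end Groth.Agent.CentExt24
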